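import Mathlib

/-!
# Reducedness via flatness and reduced fibres (ring level)
-/

set_option autoImplicit false
universe u

open TensorProduct

namespace Groth.Agent.Lib.Helper6.RedFib

/-- A flat algebra over a reduced Noetherian ring with reduced fibres over the minimal primes is
reduced. -/
theorem isReduced_of_flat_of_fiber {A B : Type u} [CommRing A] [CommRing B] [Algebra A B]
    [IsNoetherianRing A] [IsReduced A] [Module.Flat A B]
    (h : ∀ (p : Ideal A) [p.IsPrime], p ∈ minimalPrimes A → IsReduced (p.Fiber B)) :
    IsReduced B := by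
  classical
  have hfin : (minimalPrimes A).Finite := minimalPrimes.finite_of_isNoetherianRing A
  let ι := {p : Ideal A // p ∈ minimalPrimes A}
  have : Fintype ι := hfin.fintype
  have hpr : ∀ i : ι, i.1.IsPrime := fun i => i.2.1.1
  let K := ∀ i : ι, (i.1).ResidueField
  have hinj : Function.Injective (algebraMap A K) := by
    rw [injective_iff_map_eq_zero]
    intro a ha
    have h1 : ∀ p ∈ minimalPrimes A, a ∈ p := by
      intro p hp
      have := congrFun ha ⟨p, hp⟩
      have hp' : p.IsPrime := hp.1.1
      simpa [K, Pi.algebraMap_apply, Ideal.algebraMap_residueField_eq_zero] using this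
    have h2 : a ∈ sInf (minimalPrimes A) := by
      rw [Ideal.mem_sInf]; exact fun I hI => h1 I hI
    rw [minimalPrimes, Ideal.sInf_minimalPrimes] at h2
    have h3 : (⊥ : Ideal A).radical = ⊥ := by
      have := nilradical_eq_zero A
      simpa [nilradical] using this
    rw [h3] at h2
    exact (Submodule.mem_bot A).mp h2
  have h1 : Function.Injective (LinearMap.lTensor B (Algebra.linearMap A K)) :=
    Module.Flat.lTensor_preserves_injective_linearMap _ hinj
  have h2 : Function.Injective (Algebra.TensorProduct.includeLeft : B →ₐ[A] B ⊗[A] K) := by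
    intro b b' hbb
    have e : ∀ b : B, (Algebra.TensorProduct.includeLeft : B →ₐ[A] B ⊗[A] K) b =
        LinearMap.lTensor B (Algebra.linearMap A K) ((TensorProduct.rid A B).symm b) := by
      intro b
      simp
    rw [e, e] at hbb
    exact (TensorProduct.rid A B).symm.injective (h1 hbb)
  have hred : ∀ i : ι, IsReduced (B ⊗[A] (i.1).ResidueField) := by
    intro i
    have := h i.1 i.2
    exact isReduced_of_injective (Algebra.TensorProduct.comm A B (i.1).ResidueField).toRingHom
      (Algebra.TensorProduct.comm A B (i.1).ResidueField).injective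
  have hred2 : IsReduced (B ⊗[A] K) :=
    isReduced_of_injective
      (Algebra.TensorProduct.piRight A A B (fun i : ι => (i.1).ResidueField)).toRingHom
      (Algebra.TensorProduct.piRight A A B (fun i : ι => (i.1).ResidueField)).injective
  exact isReduced_of_injective
    (Algebra.TensorProduct.includeLeft : B →ₐ[A] B ⊗[A] K).toRingHom h2

/-- Over a Noetherian ring, if the localization at `p` is reduced then so is the localization
away from some element outside `p`. -/
theorem exists_isReduced_away {A : Type u} [CommRing A] [IsNoetherianRing A] (p : Ideal A)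
    [p.IsPrime] [IsReduced (Localization.AtPrime p)] :
    ∃ a ∉ p, IsReduced (Localization.Away a) := by
  classical
  obtain ⟨s, hs⟩ : (nilradical A).FG := IsNoetherian.noetherian _
  have h1 : ∀ n ∈ nilradical A, ∃ t : A, t ∉ p ∧ t * n = 0 := by
    intro n hn
    have hn' : IsNilpotent (algebraMap A (Localization.AtPrime p) n) :=
      (mem_nilradical.mp hn).map _
    have h0 : algebraMap A (Localization.AtPrime p) n = 0 := hn'.eq_zero
    obtain ⟨m, hm⟩ := (IsLocalization.map_eq_zero_iff p.primeCompl _ _).mp h0
    exact ⟨m.1, m.2, hm⟩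
  choose! t ht1 ht2 using h1
  let a : A := ∏ n ∈ s, t n
  have hsub : ∀ n ∈ s, n ∈ nilradical A := fun n hn => hs ▸ Submodule.subset_span hn
  have ha : a ∉ p := by
    have : a ∈ p.primeCompl :=
      Submonoid.prod_mem _ fun n hn => ht1 n (hsub n hn)
    exact this
  have hkill : ∀ x ∈ nilradical A, a * x = 0 := by
    intro x hx
    rw [← hs] at hx
    refine Submodule.span_induction ?_ ?_ ?_ ?_ hx
    · intro n hn
      obtain ⟨c, hc⟩ := Finset.dvd_prod_of_mem t hn
      show a * n = 0
      have : a = c * t n := by
        show ∏ i ∈ s, t i = _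
        rw [hc]; ring
      rw [this, mul_assoc, ht2 n (hsub n hn), mul_zero]
    · simp
    · intro x y _ _ hx hy; rw [mul_add, hx, hy, add_zero]
    · intro r x _ hx; rw [smul_eq_mul, mul_left_comm, hx, mul_zero]
  refine ⟨a, ha, ⟨fun x hx => ?_⟩⟩
  obtain ⟨y, sm, rfl⟩ := IsLocalization.exists_mk'_eq (Submonoid.powers a) x
  -- algebraMap y is nilpotent
  have hy : IsNilpotent (algebraMap A (Localization.Away a) y) := by
    have : algebraMap A (Localization.Away a) y =
        IsLocalization.mk' (Localization.Away a) y sm *
          algebraMap A (Localization.Away a) sm :=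
      (IsLocalization.mk'_spec _ y sm).symm
    rw [this]
    exact (Commute.all _ _).isNilpotent_mul_right hx
  obtain ⟨r, hr⟩ := hy
  rw [← map_pow] at hr
  obtain ⟨⟨_, k, rfl⟩, hk⟩ := (IsLocalization.map_eq_zero_iff (Submonoid.powers a) _ _).mp hr
  have hay : a * y ∈ nilradical A := by
    rw [mem_nilradical]
    refine ⟨k + r, ?_⟩
    rw [mul_pow, pow_add, pow_add]
    have : a ^ k * a ^ r * (y ^ k * y ^ r) = a ^ r * y ^ k * (a ^ k * y ^ r) := by ring
    rw [this]
    simp only at hk
    rw [hk, mul_zero]
  have h2 := hkill _ hay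
  have h3 : algebraMap A (Localization.Away a) y = 0 := by
    rw [IsLocalization.map_eq_zero_iff (Submonoid.powers a)]
    exact ⟨⟨a * a, 2, by ring⟩, by simpa [mul_assoc] using h2⟩
  rw [IsLocalization.mk'_eq_mul_mk'_one, h3, zero_mul]

end Groth.Agent.Lib.Helper6.RedFib
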