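import Mathlib
import Groth.Agent.Lib.Helper6.RedFib.Ring

/-!
# Reducedness via flatness and reduced fibres (scheme level)
-/

set_option autoImplicit false
set_option linter.unusedSectionVars false
universe u

open CategoryTheory Limits AlgebraicGeometry TensorProduct

namespace Groth.Agent.Lib.Helper6.RedFib

/-- The fibre of a chart of `f` is an open subscheme of the fibre of `f`. -/
theorem exists_fiber_chart {X S V U : Scheme.{u}} (f : X ⟶ S)
    (j : V ⟶ X) (i : U ⟶ S) [IsOpenImmersion j] [IsOpenImmersion i] (g : V ⟶ U)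
    (hg : g ≫ i = j ≫ f) (u : U) :
    ∃ ψ : g.fiber u ⟶ f.fiber (i u), IsOpenImmersion ψ ∧
      ψ ≫ f.fiberToSpecResidueField (i u) =
        g.fiberToSpecResidueField u ≫ Spec.map (i.residueFieldMap u) ∧
      ψ ≫ f.fiberι (i u) = g.fiberι u ≫ j := by
  let ψ : g.fiber u ⟶ f.fiber (i u) :=
    pullback.map g (U.fromSpecResidueField u) f (S.fromSpecResidueField (i u)) j
      (Spec.map (i.residueFieldMap u)) i hg
      (by rw [Scheme.Hom.SpecMap_residueFieldMap_fromSpecResidueField])
  have hiso : IsIso (Spec.map (i.residueFieldMap u)) := inferInstance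
  have hoi : IsOpenImmersion (Spec.map (i.residueFieldMap u)) := inferInstance
  have hmono : Mono i := inferInstance
  have hψ : IsOpenImmersion ψ := Scheme.pullback_map_isOpenImmersion _ _ _ _ _ _ _ _ _
  exact ⟨ψ, hψ, pullback.lift_snd _ _ _, pullback.lift_fst _ _ _⟩

theorem isReduced_fiber_chart {X S V U : Scheme.{u}} (f : X ⟶ S)
    (j : V ⟶ X) (i : U ⟶ S) [IsOpenImmersion j] [IsOpenImmersion i] (g : V ⟶ U)
    (hg : g ≫ i = j ≫ f) (u : U) [AlgebraicGeometry.IsReduced (f.fiber (i u))] :
    AlgebraicGeometry.IsReduced (g.fiber u) := by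
  obtain ⟨ψ, hψ, -, -⟩ := exists_fiber_chart f j i g hg u
  exact isReduced_of_isOpenImmersion ψ

/-- Reducedness of the fibre of `Spec B → Spec A` gives reducedness of the fibre ring. -/
theorem isReduced_fiber_ring (A B : Type u) [CommRing A] [CommRing B] [Algebra A B]
    (p : PrimeSpectrum A)
    [AlgebraicGeometry.IsReduced ((Spec.map (CommRingCat.ofHom (algebraMap A B))).fiber p)] :
    _root_.IsReduced (p.asIdeal.Fiber B) := by
  have e := Spec.fiberToSpecResidueFieldIso A B p
  let e' : (Spec.map (CommRingCat.ofHom (algebraMap A B))).fiber p ≅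
      Spec (.of (p.asIdeal.Fiber B)) := Arrow.leftFunc.mapIso e
  have : AlgebraicGeometry.IsReduced (Spec (.of (p.asIdeal.Fiber B))) :=
    isReduced_of_isOpenImmersion e'.inv
  exact (affine_isReduced_iff (.of (p.asIdeal.Fiber B))).mp this

/-- A flat morphism of locally Noetherian schemes with reduced fibres and reduced local rings at
image points has reduced source. -/
theorem isReduced_of_flat {X Y : Scheme.{u}} [IsLocallyNoetherian X] [IsLocallyNoetherian Y]
    (f : X ⟶ Y) [Flat f] (hY : ∀ x : X, _root_.IsReduced (Y.presheaf.stalk (f x)))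
    (hfib : ∀ y : Y, AlgebraicGeometry.IsReduced (f.fiber y)) :
    AlgebraicGeometry.IsReduced X := by
  have key : ∀ x : X, _root_.IsReduced (X.presheaf.stalk x) := by
    intro x
    obtain ⟨_, ⟨U₀, hU₀, rfl⟩, hyU₀, -⟩ :=
      Y.isBasis_affineOpens.exists_subset_of_mem_open (Set.mem_univ (f x)) isOpen_univ
    have hU₀' : IsAffineOpen U₀ := hU₀
    have hN₀ : IsNoetherianRing Γ(Y, U₀) :=
      IsLocallyNoetherian.component_noetherian ⟨U₀, hU₀'⟩
    let alg₀ := Y.presheaf.algebra_section_stalk ⟨f x, hyU₀⟩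
    have hloc₀ := hU₀'.isLocalization_stalk ⟨f x, hyU₀⟩
    have hred₀ : _root_.IsReduced
        (Localization.AtPrime (hU₀'.primeIdealOf ⟨f x, hyU₀⟩).asIdeal) := by
      have := hY x
      let e := IsLocalization.algEquiv (hU₀'.primeIdealOf ⟨f x, hyU₀⟩).asIdeal.primeCompl
        (Localization.AtPrime (hU₀'.primeIdealOf ⟨f x, hyU₀⟩).asIdeal)
        (Y.presheaf.stalk (f x))
      exact isReduced_of_injective e.toRingHom e.injective
    obtain ⟨a, ha, hreda⟩ := exists_isReduced_away (hU₀'.primeIdealOf ⟨f x, hyU₀⟩).asIdeal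
    have hU : IsAffineOpen (Y.basicOpen a) := hU₀'.basicOpen a
    have hla : IsLocalization.Away a Γ(Y, Y.basicOpen a) := hU₀'.isLocalization_basicOpen a
    have hredU : _root_.IsReduced Γ(Y, Y.basicOpen a) := by
      let e := IsLocalization.algEquiv (Submonoid.powers a) Γ(Y, Y.basicOpen a)
        (Localization.Away a)
      exact isReduced_of_injective e.toRingHom e.injective
    have hyU : f x ∈ Y.basicOpen a := by
      rw [Scheme.mem_basicOpen _ a (f x) hyU₀]
      exact (IsLocalization.AtPrime.isUnit_to_map_iff (Y.presheaf.stalk (f x))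
        (hU₀'.primeIdealOf ⟨f x, hyU₀⟩).asIdeal a).mpr ha
    obtain ⟨_, ⟨V, hV, rfl⟩, hxV, hVU⟩ :=
      X.isBasis_affineOpens.exists_subset_of_mem_open hyU ((Y.basicOpen a).2.preimage f.continuous)
    have hV' : IsAffineOpen V := hV
    have hVU' : V ≤ f ⁻¹ᵁ (Y.basicOpen a) := hVU
    have hN : IsNoetherianRing Γ(Y, Y.basicOpen a) :=
      IsLocallyNoetherian.component_noetherian ⟨Y.basicOpen a, hU⟩
    have hflat := f.flat_appLE hU hV' hVU'
    algebraize [(f.appLE (Y.basicOpen a) V hVU').hom]
    have hoV : IsOpenImmersion hV'.fromSpec := hV'.isOpenImmersion_fromSpec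
    have hoU : IsOpenImmersion hU.fromSpec := hU.isOpenImmersion_fromSpec
    have hB : _root_.IsReduced Γ(X, V) := by
      apply isReduced_of_flat_of_fiber (A := Γ(Y, Y.basicOpen a))
      intro p hp _
      have h1 : AlgebraicGeometry.IsReduced (f.fiber (hU.fromSpec ⟨p, hp⟩)) := hfib _
      have h2 : AlgebraicGeometry.IsReduced
          ((Spec.map (f.appLE (Y.basicOpen a) V hVU')).fiber ⟨p, hp⟩) :=
        isReduced_fiber_chart f hV'.fromSpec hU.fromSpec _
          (IsAffineOpen.SpecMap_appLE_fromSpec f hU hV' hVU') ⟨p, hp⟩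
      exact isReduced_fiber_ring Γ(Y, Y.basicOpen a) Γ(X, V) ⟨p, hp⟩
    let algx := X.presheaf.algebra_section_stalk ⟨x, hxV⟩
    have hlocx := hV'.isLocalization_stalk ⟨x, hxV⟩
    exact isReduced_localizationPreserves (hV'.primeIdealOf ⟨x, hxV⟩).asIdeal.primeCompl
      (X.presheaf.stalk x) hB
  exact isReduced_of_isReduced_stalk X

end Groth.Agent.Lib.Helper6.RedFib
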